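import Cfsg.Agent.Spor.U35a.L.D0

set_option autoImplicit false
set_option maxRecDepth 100000000
set_option Elab.async false

namespace Cfsg.Agent.Spor.U35a.L

theorem rel3 : U.rel 10 [1, 5, 1, 5] 0 10 = true := by decide +kernel

theorem rel4 : U.rel 10 [1, 7, 1, 7] 0 10 = true := by decide +kernel

theorem rel5 : U.rel 10 [1, 9, 1, 9] 0 10 = true := by decide +kernel

theorem gr7 : sub M6 (U.growI W1 [5, 3, 2, 1, 0, 2, 4, 5, 3, 2, 1, 0, 2, 4, 5, 3, 2] (Nat.shiftLeft 1 0)) = true := by decide +kernel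

theorem cl9 : band (U.closedW W1 M6) (sub (Nat.shiftLeft 1 0) M6) = true := by decide +kernel

theorem sz10 : sizeOk 10 M6 525 = true := by decide +kernel

theorem fx13 : U.closedW W12 (Nat.shiftLeft 1 0) = true := by decide +kernel

theorem uok6 : Net.okb 10 un6 = true := by decide +kernel

theorem rel14 : U.rel 10 [13, 3, 7, 5, 9, 7, 3, 5, 3, 9, 3, 9, 5, 3, 9, 3, 5, 7, 9, 3] 0 10 = true := by decide +kernel

theorem gr16 : sub M15 (U.growI W12 [0, 1, 2, 3, 4, 3, 1, 2, 4, 3] (Nat.shiftLeft 1 1)) = true := by decide +kernel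

theorem cl18 : band (U.closedW W12 M15) (sub (Nat.shiftLeft 1 1) M15) = true := by decide +kernel

theorem sz19 : sizeOk 10 M15 120 = true := by decide +kernel

theorem fx22 : U.closedW W21 (Nat.shiftLeft 1 1) = true := by decide +kernel

theorem gr23 : sub 0x808 (U.growI W21 [0] (Nat.shiftLeft 1 3)) = true := by decide +kernel

theorem cl25 : band (U.closedW W21 0x808) (sub (Nat.shiftLeft 1 3) 0x808) = true := by decide +kernel

theorem sz26 : sizeOk 10 0x808 2 = true := by decide +kernel

end Cfsg.Agent.Spor.U35a.L
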