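import Cfsg.Agent.Spor.Prim
import Cfsg.Agent.Spor.U35a.Main
import Cfsg.Agent.Spor.U35a.L.C0
import Cfsg.Agent.Spor.TT2

set_option autoImplicit false
set_option maxRecDepth 100000000
set_option Elab.async false

namespace Cfsg.Agent.Spor.U35a.L

theorem hU : U.Ok 10 := U.ok_of 10 (show AllP (fun n => Net.okb 10 n = true) [n0, n1, n2, n3, n4, n5, un6] from AllP.cons ok0 (AllP.cons ok1 (AllP.cons ok2 (AllP.cons ok3 (AllP.cons ok4 (AllP.cons ok5 (AllP.cons uok6 (AllP.nil))))))))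

theorem hfP : ∀ j < 6, U.fP [1, 3, 5, 7, 9, 11] j = fP j := by
  intro j hj
  interval_cases j <;> rfl
theorem eG : gsub 6 fP = U.lsub W1 := (gsub_congr hfP).symm.trans (lsub_eq_gsub U [1, 3, 5, 7, 9, 11])
theorem upz1 : ev (atm 6 fP) [0] = U.τ 1 := pz1
theorem upz3 : ev (atm 6 fP) [2] = U.τ 3 := pz2
theorem upz5 : ev (atm 6 fP) [4] = U.τ 5 := pz3
theorem upz7 : ev (atm 6 fP) [6] = U.τ 7 := pz4
theorem upz9 : ev (atm 6 fP) [8] = U.τ 9 := pz5
theorem upz11 : ev (atm 6 fP) [10] = U.τ 11 := pz6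
theorem eH : wsub 6 fP BW = U.lsub W2 :=
  lsub_eq_of_all₂ (show List.Forall₂ _ [[2], [4], [6], [8]] [[3], [5], [7], [9]] from List.Forall₂.cons (upz3.trans (one_mul _).symm) (List.Forall₂.cons (upz5.trans (one_mul _).symm) (List.Forall₂.cons (upz7.trans (one_mul _).symm) (List.Forall₂.cons (upz9.trans (one_mul _).symm) (List.Forall₂.nil)))))
theorem vpz1 : PZ U (atm 6 fP) EXU 1 := pz1
theorem vpz2 : PZ U (atm 6 fP) EXU 2 := PZ.of_inv hiv vpz1 (by decide +kernel)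
theorem vpz3 : PZ U (atm 6 fP) EXU 3 := pz2
theorem vpz4 : PZ U (atm 6 fP) EXU 4 := PZ.of_inv hiv vpz3 (by decide +kernel)
theorem vpz5 : PZ U (atm 6 fP) EXU 5 := pz3
theorem vpz6 : PZ U (atm 6 fP) EXU 6 := PZ.of_inv hiv vpz5 (by decide +kernel)
theorem vpz7 : PZ U (atm 6 fP) EXU 7 := pz4
theorem vpz8 : PZ U (atm 6 fP) EXU 8 := PZ.of_inv hiv vpz7 (by decide +kernel)
theorem vpz9 : PZ U (atm 6 fP) EXU 9 := pz5
theorem vpz10 : PZ U (atm 6 fP) EXU 10 := PZ.of_inv hiv vpz9 (by decide +kernel)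
theorem vpz11 : PZ U (atm 6 fP) EXU 11 := pz6
theorem vpz12 : PZ U (atm 6 fP) EXU 12 := PZ.of_inv hiv vpz11 (by decide +kernel)
theorem hPZU : AllP (PZ U (atm 6 fP) EXU) LU :=
  show AllP (PZ U (atm 6 fP) EXU) [1, 2, 3, 4, 5, 6, 7, 8, 9, 10, 11, 12] from AllP.cons vpz1 (AllP.cons vpz2 (AllP.cons vpz3 (AllP.cons vpz4 (AllP.cons vpz5 (AllP.cons vpz6 (AllP.cons vpz7 (AllP.cons vpz8 (AllP.cons vpz9 (AllP.cons vpz10 (AllP.cons vpz11 (AllP.cons vpz12 (AllP.nil))))))))))))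
theorem hXN : ∀ l ∈ XN, ev (atm 6 fP) l = 1 :=
  relAll_sound hiv (W := [[1, 5, 1, 5], [1, 7, 1, 7], [1, 9, 1, 9]]) (rules := [⟨[1, 5, 1, 5], [], 0, true⟩, ⟨[1, 7, 1, 7], [], 1, true⟩, ⟨[1, 9, 1, 9], [], 2, true⟩]) hPZU (AllP.cons (hU.one rel3) (AllP.cons (hU.one rel4) (AllP.cons (hU.one rel5) (AllP.nil)))) (by decide +kernel)
theorem reach8 : Reach (U.lsub W1) 0 M6 := (Reach.grow hU (Reach.base _ 0) gr7)
theorem orb11 : (orbS (U.lsub W1) 0).ncard = 525 := reach8.ncard hU cl9 sz10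
theorem orb11e : orbS (U.lsub W1) 0 = {c | Nat.testBit M6 c = true} := reach8.orb hU cl9
theorem reach17 : Reach (U.lsub W12) 1 M15 := (Reach.grow hU (Reach.base _ 1) gr16)
theorem orb20 : (orbS (U.lsub W12) 1).ncard = 120 := reach17.ncard hU cl18 sz19
theorem orb20e : orbS (U.lsub W12) 1 = {c | Nat.testBit M15 c = true} := reach17.orb hU cl18
theorem reach24 : Reach (U.lsub W21) 3 0x808 := (Reach.grow hU (Reach.base _ 3) gr23)
theorem orb27 : (orbS (U.lsub W21) 3).ncard = 2 := reach24.ncard hU cl25 sz26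
theorem orb27e : orbS (U.lsub W21) 3 = {c | Nat.testBit 0x808 c = true} := reach24.orb hU cl25
theorem lb28 : 2 ∣ Nat.card (U.lsub W21) := dvd_card_orb orb27
theorem lb29 : 240 ∣ Nat.card (U.lsub W12) :=
  dvd_card_step (s := 120) (M := 2) (B := U.lsub W21) (Tab.lsub_le_all (AllP.cons (mem_of_rel (hU.one rel14) (U.mem_letters (by decide))) (AllP.nil))) (hU.fixes fx22) orb20 lb28
theorem lb : 126000 ∣ Nat.card (U.lsub W1) :=
  dvd_card_step (s := 525) (M := 240) (B := U.lsub W12) (U.lsub_sub (by decide)) (hU.fixes fx13) orb11 lb29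

end Cfsg.Agent.Spor.U35a.L
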